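import Cfsg.Agent.SimpleFacts.AltCoverComm.Perms
import Cfsg.Agent.Lib.CharTheory.AltPresentation

/-!
# Lifts in perfect double covers of alternating groups

Commuting lifts of a four-group of double transpositions would make every double transposition lift to an
involution, and then the standard generators would lift with all their relations, splitting the cover.
-/

set_option autoImplicit false

namespace Cfsg.Agent.SimpleFacts.AltCoverComm.Lift

open Equiv Cfsg.Agent.CharTheory.AltPresentation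
open scoped commutatorElement

universe u

variable {G : Type u} [Group G] [Finite G] {m : ℕ} (hm : 3 ≤ m) (φ : G →* Perm (Fin (m + 2)))
  (hrange : φ.range = alternatingGroup (Fin (m + 2))) (hc : φ.ker ≤ Subgroup.center G)
  (hcard : Nat.card φ.ker = 2) (hperf : commutator G = ⊤)

theorem four_mul {a b c d : Fin (m + 2)} (hab : a ≠ b) (hac : a ≠ c) (had : a ≠ d) (hbc : b ≠ c)
    (hbd : b ≠ d) (hcd : c ≠ d) :
    swap a b * swap c d * (swap a c * swap b d) = swap a d * swap b c := by
  ext z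
  simp only [Perm.mul_apply]
  rcases eq_or_ne z a with rfl | ha
  · simp [swap_apply_of_ne_of_ne, hab, hac, had, hbc, hbd, hcd, hab.symm, hac.symm, had.symm, hbc.symm, hbd.symm, hcd.symm]
  rcases eq_or_ne z b with rfl | hb
  · simp [swap_apply_of_ne_of_ne, hab, hac, had, hbc, hbd, hcd, hab.symm, hac.symm, had.symm, hbc.symm, hbd.symm, hcd.symm]
  rcases eq_or_ne z c with rfl | hc
  · simp [swap_apply_of_ne_of_ne, hab, hac, had, hbc, hbd, hcd, hab.symm, hac.symm, had.symm, hbc.symm, hbd.symm, hcd.symm]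
  rcases eq_or_ne z d with rfl | hd
  · simp [swap_apply_of_ne_of_ne, hab, hac, had, hbc, hbd, hcd, hab.symm, hac.symm, had.symm, hbc.symm, hbd.symm, hcd.symm]
  simp [swap_apply_of_ne_of_ne, ha, hb, hc, hd]

theorem four_comm {a b c d : Fin (m + 2)} (hab : a ≠ b) (hac : a ≠ c) (had : a ≠ d) (hbc : b ≠ c)
    (hbd : b ≠ d) (hcd : c ≠ d) :
    swap a b * swap c d * (swap a c * swap b d) = swap a c * swap b d * (swap a b * swap c d) := by
  have h := four_mul hac hab had hbc.symm hcd hbd
  rw [four_mul hab hac had hbc hbd hcd, h, swap_comm b c]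

include hc in
theorem comm_of_ker {z : G} (hz : φ z = 1) (g : G) : g * z = z * g :=
  Subgroup.mem_center_iff.1 (hc (MonoidHom.mem_ker.2 hz)) g

include hcard in
theorem ker_sq {z : G} (hz : φ z = 1) : z * z = 1 := by
  have h : (⟨z, hz⟩ : φ.ker) ^ Nat.card φ.ker = 1 := pow_card_eq_one'
  rw [hcard, sq] at h
  exact congrArg Subtype.val h

include hcard in
theorem ker_cases {z w : G} (hz : φ z = 1) (hz1 : z ≠ 1) (hw : φ w = 1) : w = 1 ∨ w = z := by
  obtain ⟨x, hx⟩ := (Nat.card_eq_two_iff' (1 : φ.ker)).1 hcard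
  have hzx : (⟨z, hz⟩ : φ.ker) = x := hx.2 _ fun e => hz1 (congrArg Subtype.val e)
  by_cases h : w = 1
  · exact Or.inl h
  · have hwx : (⟨w, hw⟩ : φ.ker) = x := hx.2 _ fun e => h (congrArg Subtype.val e)
    exact Or.inr (congrArg Subtype.val (hwx.trans hzx.symm))

include hrange in
theorem exists_lift {s : Perm (Fin (m + 2))} (hs : Perm.sign s = 1) : ∃ g : G, φ g = s :=
  MonoidHom.mem_range.1 (hrange ▸ Perm.mem_alternatingGroup.2 hs)

include hrange hc hcard in
/-- Lifts of conjugate permutations, one of them commuting with a transposition, square alike. -/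
theorem sq_eq {a b c d a' b' c' d' : Fin (m + 2)} (h : [a, b, c, d].Nodup) (h' : [a', b', c', d'].Nodup)
    {g g' : G} (hg : φ g = swap a b * swap c d) (hg' : φ g' = swap a' b' * swap c' d') :
    g * g = g' * g' := by
  simp only [List.nodup_cons, List.mem_cons, List.not_mem_nil, or_false, not_or, List.nodup_nil,
    and_true, not_false_eq_true] at h h'
  obtain ⟨⟨hab, hac, had⟩, ⟨hbc, hbd⟩, hcd⟩ := h
  obtain ⟨⟨hab', hac', had'⟩, ⟨hbc', hbd'⟩, hcd'⟩ := h'
  have inv : ∀ {x y z w : Fin (m + 2)}, x ≠ y → x ≠ z → x ≠ w → y ≠ z → y ≠ w → z ≠ w →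
      swap x y * swap z w * (swap x y * swap z w) = 1 ∧ (swap x y * swap z w).support.card = 4 :=
    fun {x y z w} h1 h2 h3 h4 h5 h6 => by
      have hd := Perm.disjoint_swap_swap (Perms.nodup_four h1 h2 h3 h4 h5 h6)
      refine ⟨?_, by rw [hd.card_support_mul, Perm.card_support_swap h1, Perm.card_support_swap h6]⟩
      rw [show swap x y * swap z w * (swap x y * swap z w) = swap x y * (swap z w * swap x y) * swap z w by
        group, ← hd.commute.eq, ← mul_assoc (swap x y), swap_mul_self, one_mul, swap_mul_self]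
  obtain ⟨i1, i2⟩ := inv hab hac had hbc hbd hcd
  obtain ⟨i1', i2'⟩ := inv hab' hac' had' hbc' hbd' hcd'
  obtain ⟨π, hπ⟩ := Pair.conj_of_card i1 i1' (i2.trans i2'.symm)
  obtain ⟨π, hπ, hsπ⟩ : ∃ π : Perm (Fin (m + 2)),
      π * (swap a b * swap c d) * π⁻¹ = swap a' b' * swap c' d' ∧ Perm.sign π = 1 := by
    rcases Int.units_eq_one_or (Perm.sign π) with hs | hs
    · exact ⟨π, hπ, hs⟩
    · refine ⟨π * swap a b, ?_, by rw [map_mul, hs, Perm.sign_swap hab]; rfl⟩
      have hd := (Perm.disjoint_swap_swap (Perms.nodup_four hab hac had hbc hbd hcd)).commute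
      rw [mul_inv_rev, swap_inv, ← hπ]
      calc π * swap a b * (swap a b * swap c d) * (swap a b * π⁻¹)
          = π * (swap a b * swap a b) * (swap c d * swap a b) * π⁻¹ := by group
        _ = π * (swap a b * swap c d) * π⁻¹ := by rw [swap_mul_self, mul_one, hd.eq]
  obtain ⟨t, ht⟩ := exists_lift φ hrange hsπ
  obtain ⟨w, hw, rfl⟩ : ∃ w, φ w = 1 ∧ g' = w * (t * g * t⁻¹) :=
    ⟨g' * (t * g * t⁻¹)⁻¹, by rw [map_mul, map_inv, map_mul, map_mul, map_inv, ht, hg, hπ, hg',
      mul_inv_cancel], by rw [inv_mul_cancel_right]⟩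
  have hsq : φ (g * g) = 1 := by rw [map_mul, hg, i1]
  calc g * g = t * (g * g) * t⁻¹ := by rw [comm_of_ker φ hc hsq t, mul_inv_cancel_right]
    _ = (w * w) * (t * (g * g) * t⁻¹) := by rw [ker_sq φ hcard hw, one_mul]
    _ = w * (w * (t * g * t⁻¹)) * (t * g * t⁻¹) := by group
    _ = w * ((t * g * t⁻¹) * w) * (t * g * t⁻¹) := by rw [comm_of_ker φ hc hw (t * g * t⁻¹)]
    _ = _ := by group

include hrange hc hcard hperf in
/-- Not all double transpositions lift to involutions. -/
theorem not_all_sq_one (hm : 3 ≤ m) :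
    ¬ ∀ (g : G) (a b c d : Fin (m + 2)), [a, b, c, d].Nodup → φ g = swap a b * swap c d → g * g = 1 := by
  intro hall
  have hfour : ∀ {a b c d : ℕ}, a < m + 2 → b < m + 2 → c < m + 2 → d < m + 2 → a ≠ b → a ≠ c → a ≠ d →
      b ≠ c → b ≠ d → c ≠ d → [pt m a, pt m b, pt m c, pt m d].Nodup :=
    fun ha hb hc hd h1 h2 h3 h4 h5 h6 => Perms.nodup_four (pt_ne ha hb h1) (pt_ne ha hc h2)
      (pt_ne ha hd h3) (pt_ne hb hc h4) (pt_ne hb hd h5) (pt_ne hc hd h6)
  have hX : ∀ i, ∃ g : G, i < m → φ g = gen m i := fun i => by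
    by_cases hi : i < m
    · obtain ⟨g, hg⟩ := MonoidHom.mem_range.1
        (show gen m i ∈ φ.range by rw [hrange, ← closure_gen m]; exact Subgroup.subset_closure ⟨i, hi, rfl⟩)
      exact ⟨g, fun _ => hg⟩
    · exact ⟨1, fun h => absurd h hi⟩
  choose X hX using hX
  have hg := gen_rels m
  -- one step of the normalisation
  have hfix : ∀ (T Y : G), φ (T * Y) ^ 3 = 1 → ∃ w, φ w = 1 ∧ (T * (w * Y)) ^ 3 = 1 := fun T Y h => by
    have hd : φ ((T * Y) ^ 3) = 1 := by rw [map_pow]; exact h
    refine ⟨(T * Y) ^ 3, hd, ?_⟩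
    rw [← mul_assoc, comm_of_ker φ hc hd T, mul_assoc,
      ((show Commute ((T * Y) ^ 3) (T * Y) from (comm_of_ker φ hc hd (T * Y)).symm)).mul_pow]
    rw [show ((T * Y) ^ 3) ^ 3 = (T * Y) ^ 3 * (T * Y) ^ 3 * (T * Y) ^ 3 by group, ker_sq φ hcard hd,
      one_mul, ker_sq φ hcard hd]
  obtain ⟨T, hT, hT3, hTadj⟩ : ∃ T : ℕ → G, (∀ i, i < m → φ (T i) = gen m i) ∧ T 0 ^ 3 = 1 ∧
      ∀ i, i + 1 < m → (T i * T (i + 1)) ^ 3 = 1 := by
    suffices hk : ∀ k, k ≤ m → ∃ T : ℕ → G, (∀ i, i < k → φ (T i) = gen m i) ∧ T 0 ^ 3 = 1 ∧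
        ∀ i, i + 1 < k → (T i * T (i + 1)) ^ 3 = 1 from hk m le_rfl
    intro k
    induction k with
    | zero =>
      exact fun _ => ⟨fun _ => 1, fun i hi => absurd hi (by omega), one_pow 3, fun i hi => absurd hi (by omega)⟩
    | succ k ih =>
      intro hk
      obtain ⟨T, h1, h2, h3⟩ := ih (by omega)
      rcases Nat.eq_zero_or_pos k with rfl | hk0
      · obtain ⟨w, hw, hw3⟩ := hfix 1 (X 0) (by rw [one_mul, hX 0 (by omega)]; exact hg.cube (by omega))
        exact ⟨fun _ => w * X 0, fun i hi => by rw [show i = 0 by omega, map_mul, hw, one_mul, hX 0 (by omega)],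
          by rwa [one_mul] at hw3, fun i hi => absurd hi (by omega)⟩
      obtain ⟨k, rfl⟩ : ∃ q, k = q + 1 := ⟨k - 1, by omega⟩
      obtain ⟨w, hw, hw3⟩ := hfix (T k) (X (k + 1))
        (by rw [map_mul, h1 k (by omega), hX _ (by omega)]; exact hg.adj k (by omega))
      refine ⟨Function.update T (k + 1) (w * X (k + 1)), fun i hi => ?_, ?_, fun i hi => ?_⟩
      · rcases eq_or_ne i (k + 1) with rfl | hne
        · rw [Function.update_self, map_mul, hw, one_mul, hX _ (by omega)]
        · rw [Function.update_of_ne hne]; exact h1 i (by omega)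
      · rw [Function.update_of_ne (by omega)]; exact h2
      · rcases eq_or_ne i k with rfl | hne
        · rw [Function.update_self, Function.update_of_ne (by omega)]; exact hw3
        · rw [Function.update_of_ne (show i + 1 ≠ k + 1 by omega),
            Function.update_of_ne (show i ≠ k + 1 by omega)]
          exact h3 i (by omega)
  have hrels : Rels T m := by
    refine ⟨fun _ => hT3, fun i h1 hi => ?_, hTadj, fun i j hij hj => ?_⟩
    · rw [sq]
      exact hall _ _ _ _ _ (hfour (a := 0) (b := 1) (c := i + 1) (d := i + 1 + 1) (by omega) (by omega)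
        (by omega) (by omega) (by omega) (by omega) (by omega) (by omega) (by omega) (by omega)) (hT i hi)
    · rw [sq]
      have hφ : φ (T i * T j) = gen m i * gen m j := by rw [map_mul, hT i (by omega), hT j hj]
      rcases Nat.eq_zero_or_pos i with rfl | h0
      · refine hall _ _ _ _ _ (hfour (a := 0) (b := 2) (c := j + 1) (d := j + 1 + 1) (by omega) (by omega)
          (by omega) (by omega) (by omega) (by omega) (by omega) (by omega) (by omega) (by omega)) ?_
        rw [hφ]
        show sw m 0 * sw m (0 + 1) * (sw m 0 * sw m (j + 1)) = _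
        rw [← mul_assoc]
        congr 1
        show swap (pt m 0) (pt m 1) * swap (pt m 1) (pt m 2) * swap (pt m 0) (pt m 1) = _
        rw [swap_comm (pt m 0) (pt m 1), swap_comm (pt m 1) (pt m 2), swap_mul_swap_mul_swap]
        · exact pt_ne (by omega) (by omega) (by omega)
        · exact pt_ne (by omega) (by omega) (by omega)
      · refine hall _ _ _ _ _ (hfour (a := i + 1) (b := i + 1 + 1) (c := j + 1) (d := j + 1 + 1) (by omega)
          (by omega) (by omega) (by omega) (by omega) (by omega) (by omega) (by omega) (by omega)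
          (by omega)) ?_
        rw [hφ]
        show sw m 0 * sw m (i + 1) * (sw m 0 * sw m (j + 1)) = _
        rw [show sw m 0 * sw m (i + 1) = sw m (i + 1) * sw m 0 from sw_far (by omega) (by omega), mul_assoc,
          ← mul_assoc (sw m 0) (sw m 0), sw_sq, one_mul]
        rfl
  -- the lifts generate a proper subgroup, which contains all commutators
  set H := Subgroup.closure (T '' Set.Iio m) with hH
  obtain ⟨-, hle⟩ := card_closure_le hrels m (by omega) le_rfl
  have hdec : ∀ g : G, ∃ l ∈ H, φ (l⁻¹ * g) = 1 := fun g => by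
    have hmap : H.map φ = φ.range := by
      rw [hrange, hH, MonoidHom.map_closure, ← closure_gen m, ← Set.image_comp]
      congr 1
      exact Set.image_congr fun i hi => hT i hi
    obtain ⟨l, hl, e⟩ := (hmap ▸ ⟨g, rfl⟩ : φ g ∈ H.map φ)
    exact ⟨l, hl, by rw [map_mul, map_inv, e, inv_mul_cancel]⟩
  have hcomm : commutator G ≤ H := by
    rw [commutator_def, Subgroup.commutator_le]
    intro g _ g' _
    obtain ⟨l, hl, hlc⟩ := hdec g
    obtain ⟨l', hl', hlc'⟩ := hdec g'
    have e : ⁅g, g'⁆ = ⁅l, l'⁆ := by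
      calc ⁅g, g'⁆ = ⁅l * (l⁻¹ * g), l' * (l'⁻¹ * g')⁆ := by
            rw [mul_inv_cancel_left, mul_inv_cancel_left]
        _ = l * ((l⁻¹ * g) * (l' * (l'⁻¹ * g'))) * (l⁻¹ * g)⁻¹ * l⁻¹ * (l' * (l'⁻¹ * g'))⁻¹ := by
            rw [commutatorElement_def]; group
        _ = l * (l' * (l'⁻¹ * g')) * l⁻¹ * (l' * (l'⁻¹ * g'))⁻¹ := by
            rw [← comm_of_ker φ hc hlc (l' * (l'⁻¹ * g'))]; group
        _ = l * l' * ((l'⁻¹ * g') * l⁻¹) * (l'⁻¹ * g')⁻¹ * l'⁻¹ := by group
        _ = l * l' * (l⁻¹ * (l'⁻¹ * g')) * (l'⁻¹ * g')⁻¹ * l'⁻¹ := by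
            rw [← comm_of_ker φ hc hlc' l⁻¹]
        _ = ⁅l, l'⁆ := by rw [commutatorElement_def]; group
    rw [e, commutatorElement_def]
    exact H.mul_mem (H.mul_mem (H.mul_mem hl hl') (H.inv_mem hl)) (H.inv_mem hl')
  rw [hperf, top_le_iff] at hcomm
  rw [← hH, hcomm, Subgroup.card_top] at hle
  have h2 := φ.ker.card_mul_index
  rw [Subgroup.index_ker, hrange, hcard] at h2
  haveI : Nontrivial (Fin (m + 2)) := Fin.nontrivial_iff_two_le.2 (by omega)
  have halt : 2 * Nat.card (alternatingGroup (Fin (m + 2))) = (m + 2).factorial := by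
    rw [two_mul_nat_card_alternatingGroup, Nat.card_eq_fintype_card, Fintype.card_perm, Fintype.card_fin]
  have hfac := Nat.factorial_pos (m + 2)
  omega

include hm hrange hc hcard hperf in
/-- The lifts of two double transpositions generating a four-group do not commute. -/
theorem anticommute {a b c d : Fin (m + 2)} (h : [a, b, c, d].Nodup) {A C : G}
    (hA : φ A = swap a b * swap c d) (hC : φ C = swap a c * swap b d) : ⁅A, C⁆ ≠ 1 := by
  intro hcomm
  refine not_all_sq_one φ hrange hc hcard hperf hm fun g a' b' c' d' h' hg => ?_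
  have h0 := h
  simp only [List.nodup_cons, List.mem_cons, List.not_mem_nil, or_false, not_or, List.nodup_nil,
    and_true, not_false_eq_true] at h
  obtain ⟨⟨hab, hac, had⟩, ⟨hbc, hbd⟩, hcd⟩ := h
  have hAC : φ (A * C) = swap a d * swap b c := by
    rw [map_mul, hA, hC]; exact four_mul hab hac had hbc hbd hcd
  have e1 := sq_eq φ hrange hc hcard h0 h' hA hg
  have e2 := sq_eq φ hrange hc hcard
    (Perms.nodup_four hac hab had (Ne.symm hbc) hcd hbd) h' hC hg
  have e3 := sq_eq φ hrange hc hcard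
    (Perms.nodup_four had hab hac (Ne.symm hbd) (Ne.symm hcd) hbc) h' hAC hg
  rw [commutatorElement_eq_one_iff_mul_comm] at hcomm
  have e4 : g * g * (g * g) = g * g := by
    calc g * g * (g * g) = A * A * (C * C) := by rw [e1, e2]
      _ = A * (A * C) * C := by group
      _ = A * (C * A) * C := by rw [hcomm]
      _ = A * C * (A * C) := by group
      _ = g * g := e3
  exact mul_eq_left.1 e4

include hm hrange hc hcard hperf in
/-- Every element is a commutator. -/
theorem all_commutators (g : G) : ∃ x y : G, x * y * x⁻¹ * y⁻¹ = g := by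
  classical
  haveI : Nontrivial φ.ker := Finite.one_lt_card_iff_nontrivial.1 (by omega)
  obtain ⟨⟨z, hz⟩, hz1⟩ := exists_ne (1 : φ.ker)
  replace hz1 : z ≠ 1 := fun e => hz1 (Subtype.ext e)
  have key : ∀ (x π : Perm (Fin (m + 2))), Perms.TwoPairs x → φ g = x * (π * x * π⁻¹) →
      ∃ x y : G, x * y * x⁻¹ * y⁻¹ = g := by
    rintro x π ⟨hx, a, b, c, d, hnd, xa, xb, xc, xd⟩ he
    have hnd0 := hnd
    simp only [List.nodup_cons, List.mem_cons, List.not_mem_nil, or_false, not_or, List.nodup_nil,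
      and_true, not_false_eq_true] at hnd
    obtain ⟨⟨hab, hac, had⟩, ⟨hbc, hbd⟩, hcd⟩ := hnd
    set s := swap a b * swap c d with hs
    set r := swap c d * swap a b * x with hr
    obtain ⟨C, hC⟩ := exists_lift φ hrange (s := swap a c * swap b d)
      (by rw [map_mul, Perm.sign_swap hac, Perm.sign_swap hbd]; rfl)
    obtain ⟨A₁, hA₁⟩ := exists_lift φ hrange (s := s)
      (by rw [hs, map_mul, Perm.sign_swap hab, Perm.sign_swap hcd]; rfl)
    have hfix : ∀ p, p = a ∨ p = b ∨ p = c ∨ p = d → r p = p := by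
      rintro p (rfl | rfl | rfl | rfl)
      · rw [hr, Perm.mul_apply, Perm.mul_apply, xa, swap_apply_right, swap_apply_of_ne_of_ne hac had]
      · rw [hr, Perm.mul_apply, Perm.mul_apply, xb, swap_apply_left, swap_apply_of_ne_of_ne hbc hbd]
      · rw [hr, Perm.mul_apply, Perm.mul_apply, xc, swap_apply_of_ne_of_ne (Ne.symm had) (Ne.symm hbd), swap_apply_right]
      · rw [hr, Perm.mul_apply, Perm.mul_apply, xd, swap_apply_of_ne_of_ne (Ne.symm hac) (Ne.symm hbc), swap_apply_left]
    have hsr : Perm.sign r = 1 := by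
      rw [hr, map_mul, map_mul, Perm.sign_swap hcd, Perm.sign_swap hab, hx]; rfl
    -- the rest of `x` has a lift commuting with `C`
    let P : Fin (m + 2) → Prop := fun p => ¬ (p = a ∨ p = b ∨ p = c ∨ p = d)
    have hrK : r ∈ (Subgroup.centralizer {C}).map φ := by
      have hall : (alternatingGroup (Subtype P)).map Perm.ofSubtype ≤ (Subgroup.centralizer {C}).map φ := by
        rw [← Equiv.Perm.closure_three_cycles_eq_alternating, MonoidHom.map_closure, Subgroup.closure_le]
        rintro _ ⟨t, ht, rfl⟩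
        obtain ⟨R, hR⟩ := exists_lift φ hrange (s := Perm.ofSubtype t)
          (by rw [Perm.sign_ofSubtype]; exact Perm.IsThreeCycle.sign ht)
        have hcom : φ R * φ C = φ C * φ R := by
          rw [hR, hC]
          have hd1 : ∀ p, ¬ P p → Perm.ofSubtype t p = p := fun p hp => Perm.ofSubtype_apply_of_not_mem t hp
          rw [← mul_assoc, mul_swap_eq_swap_mul (Perm.ofSubtype t), mul_assoc,
            mul_swap_eq_swap_mul (Perm.ofSubtype t),
            hd1 a (by simp [P]), hd1 c (by simp [P]), hd1 b (by simp [P]), hd1 d (by simp [P]), ← mul_assoc]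
        have hk : φ ⁅R, C⁆ = 1 := by rw [map_commutatorElement, commutatorElement_eq_one_iff_mul_comm, hcom]
        have hR3 : φ (R ^ 3) = 1 := by
          rw [map_pow, hR, ← map_pow, show t ^ 3 = 1 from ht.orderOf ▸ pow_orderOf_eq_one t, map_one]
        have hRC : R * C * R⁻¹ = ⁅R, C⁆ * C := by rw [commutatorElement_def]; group
        have e : R ^ 3 * C * (R ^ 3)⁻¹ = ⁅R, C⁆ ^ 3 * C := by
          calc R ^ 3 * C * (R ^ 3)⁻¹ = R * (R * (R * C * R⁻¹) * R⁻¹) * R⁻¹ := by
                simp only [pow_succ, pow_zero, one_mul, mul_inv_rev, mul_assoc]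
            _ = R * (R * ⁅R, C⁆ * C * R⁻¹) * R⁻¹ := by rw [hRC]; group
            _ = R * (⁅R, C⁆ * (R * C * R⁻¹)) * R⁻¹ := by rw [comm_of_ker φ hc hk R]; group
            _ = R * (⁅R, C⁆ * ⁅R, C⁆) * C * R⁻¹ := by rw [hRC]; group
            _ = R * C * R⁻¹ := by rw [ker_sq φ hcard hk, mul_one]
            _ = ⁅R, C⁆ * C := hRC
            _ = ⁅R, C⁆ ^ 3 * C := by rw [pow_succ, sq, ker_sq φ hcard hk, one_mul]
        rw [← comm_of_ker φ hc hR3 C, mul_inv_cancel_right, pow_succ, sq, ker_sq φ hcard hk, one_mul] at e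
        have e' : ⁅R, C⁆ = 1 := mul_eq_right.1 e.symm
        exact ⟨R, Subgroup.mem_centralizer_singleton_iff.2
          ((commutatorElement_eq_one_iff_mul_comm.1 e')), hR⟩
      have hpres : ∀ p, P (r p) ↔ P p := fun p => by
        refine ⟨fun h hp => h ?_, fun h hp => h ?_⟩
        · rw [hfix p hp]; exact hp
        · have := r.injective (hfix _ hp)
          rwa [this] at hp
      have hrS : ∀ p, r p ≠ p → P p := fun p hp h => hp (hfix p h)
      refine hall ⟨r.subtypePerm hpres, ?_, Perm.ofSubtype_subtypePerm hpres hrS⟩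
      rw [SetLike.mem_coe, Perm.mem_alternatingGroup, ← Perm.sign_ofSubtype (r.subtypePerm hpres),
        Perm.ofSubtype_subtypePerm hpres hrS, hsr]
    obtain ⟨R, hRC, hR⟩ := hrK
    rw [SetLike.mem_coe, Subgroup.mem_centralizer_singleton_iff] at hRC
    set A := A₁ * R with hA
    have hφA : φ A = x := by
      rw [hA, map_mul, hA₁, hR, hr, hs, mul_assoc (swap a b), ← mul_assoc (swap c d), ← mul_assoc (swap c d),
        swap_mul_self, one_mul, ← mul_assoc, swap_mul_self, one_mul]
    have hAC : ⁅A, C⁆ = ⁅A₁, C⁆ := by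
      calc ⁅A, C⁆ = A₁ * (R * C) * R⁻¹ * A₁⁻¹ * C⁻¹ := by rw [hA, commutatorElement_def]; group
        _ = A₁ * (C * R) * R⁻¹ * A₁⁻¹ * C⁻¹ := by rw [hRC]
        _ = ⁅A₁, C⁆ := by rw [commutatorElement_def]; group
    have hk : φ ⁅A₁, C⁆ = 1 := by
      rw [map_commutatorElement, commutatorElement_eq_one_iff_mul_comm, hA₁, hC, hs]
      exact four_comm hab hac had hbc hbd hcd
    have hAz : ⁅A, C⁆ = z := (ker_cases φ hcard hz hz1 (hAC ▸ hk)).resolve_left
      (hAC ▸ anticommute hm φ hrange hc hcard hperf hnd0 hA₁ hC)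
    -- an even conjugator from `x⁻¹` to the second factor
    obtain ⟨π', hπ'⟩ : ∃ π' : Perm (Fin (m + 2)), π' * x⁻¹ * π'⁻¹ = x :=
      isConj_iff.1 (Perm.isConj_iff_cycleType_eq.2 (Perm.cycleType_inv x))
    obtain ⟨β, hβ, hsβ⟩ : ∃ β : Perm (Fin (m + 2)),
        β * x⁻¹ * β⁻¹ = π * x * π⁻¹ ∧ Perm.sign β = 1 := by
      have h0 : π * π' * x⁻¹ * (π * π')⁻¹ = π * x * π⁻¹ := by
        calc π * π' * x⁻¹ * (π * π')⁻¹ = π * (π' * x⁻¹ * π'⁻¹) * π⁻¹ := by group
          _ = π * x * π⁻¹ := by rw [hπ']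
      rcases Int.units_eq_one_or (Perm.sign (π * π')) with h | h
      · exact ⟨π * π', h0, h⟩
      refine ⟨π * π' * swap a b, ?_, by rw [map_mul, h, Perm.sign_swap hab]; rfl⟩
      have hcx : swap a b * x⁻¹ = x⁻¹ * swap a b := by
        have e : x * swap a b = swap a b * x := by rw [mul_swap_eq_swap_mul, xa, xb, swap_comm]
        rw [eq_inv_mul_iff_mul_eq, ← mul_assoc, e, mul_inv_cancel_right]
      rw [← h0, mul_inv_rev, swap_inv, mul_assoc (π * π'), hcx]
      calc π * π' * (x⁻¹ * swap a b) * (swap a b * (π * π')⁻¹)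
          = π * π' * x⁻¹ * (swap a b * swap a b) * (π * π')⁻¹ := by group
        _ = π * π' * x⁻¹ * (π * π')⁻¹ := by rw [swap_mul_self, mul_one]
    obtain ⟨B, hB⟩ := exists_lift φ hrange hsβ
    have himg : φ (A * B * A⁻¹ * B⁻¹) = φ g := by
      rw [map_mul, map_mul, map_mul, map_inv, map_inv, hφA, hB, he, ← hβ]; group
    have hw : φ ((A * B * A⁻¹ * B⁻¹)⁻¹ * g) = 1 := by rw [map_mul, map_inv, himg, inv_mul_cancel]
    rcases ker_cases φ hcard hz hz1 hw with h | h
    · exact ⟨A, B, inv_mul_eq_one.1 h⟩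
    · refine ⟨A, B * C, ?_⟩
      calc A * (B * C) * A⁻¹ * (B * C)⁻¹ = A * B * A⁻¹ * ⁅A, C⁆ * B⁻¹ := by
            rw [commutatorElement_def]; group
        _ = A * B * A⁻¹ * (z * B⁻¹) := by rw [hAz]; group
        _ = A * B * A⁻¹ * (B⁻¹ * z) := by rw [comm_of_ker φ hc hz B⁻¹]
        _ = g := by rw [← h]; group
  rcases eq_or_ne (φ g) 1 with h1 | h1
  · rcases ker_cases φ hcard hz hz1 h1 with rfl | rfl
    · exact ⟨1, 1, by group⟩
    · have hnd : [pt m 0, pt m 1, pt m 2, pt m 3].Nodup := Perms.nodup_four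
        (pt_ne (by omega) (by omega) (by omega)) (pt_ne (by omega) (by omega) (by omega))
        (pt_ne (by omega) (by omega) (by omega)) (pt_ne (by omega) (by omega) (by omega))
        (pt_ne (by omega) (by omega) (by omega)) (pt_ne (by omega) (by omega) (by omega))
      refine key (swap (pt m 0) (pt m 1) * swap (pt m 2) (pt m 3)) 1 (Perms.twoPairs_swap
        (pt_ne (by omega) (by omega) (by omega)) (pt_ne (by omega) (by omega) (by omega))
        (pt_ne (by omega) (by omega) (by omega)) (pt_ne (by omega) (by omega) (by omega))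
        (pt_ne (by omega) (by omega) (by omega)) (pt_ne (by omega) (by omega) (by omega))) ?_
      rw [h1, one_mul, inv_one, mul_one,
        show swap (pt m 0) (pt m 1) * swap (pt m 2) (pt m 3) * (swap (pt m 0) (pt m 1) * swap (pt m 2) (pt m 3)) =
          swap (pt m 0) (pt m 1) * (swap (pt m 2) (pt m 3) * swap (pt m 0) (pt m 1)) * swap (pt m 2) (pt m 3)
          by group, ← (Perm.disjoint_swap_swap hnd).commute.eq, ← mul_assoc (swap (pt m 0) (pt m 1)),
        swap_mul_self, one_mul, swap_mul_self]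
  · obtain ⟨x, π, hx, he⟩ := Perms.good (by rw [Fintype.card_fin]; omega)
      (Perm.mem_alternatingGroup.1 (hrange ▸ MonoidHom.mem_range.2 ⟨g, rfl⟩)) h1
    exact key x π hx he

end Cfsg.Agent.SimpleFacts.AltCoverComm.Lift
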