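import Mathlib

/-!
# Balanced pairs of involutions

Every permutation is a product of two involutions, supported inside its support, whose supports differ in size by at
most two; for an even permutation the sizes are equal, and for a nontrivial one the supports differ as sets.
-/

set_option autoImplicit false

namespace Cfsg.Agent.SimpleFacts.AltCoverComm.Pair

open Equiv

variable {α : Type*} [DecidableEq α] [Fintype α]

/-- A balanced factorization into two involutions. -/
def Balanced (σ : Perm α) : Prop :=
  ∃ a b : Perm α, a * a = 1 ∧ b * b = 1 ∧ σ = a * b ∧ a.support ⊆ σ.support ∧ b.support ⊆ σ.support ∧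
    a.support.card ≤ b.support.card ∧ b.support.card ≤ a.support.card + 2 ∧
    (σ ≠ 1 → a.support ≠ b.support)

theorem support_conj_self {a b : Perm α} (ha : a * a = 1) (h : (a * b * a).support = a.support) :
    b.support = a.support := by
  have happ : ∀ z, a (a z) = z := fun z => by rw [← Perm.mul_apply, ha, Perm.one_apply]
  ext y
  have h' := Finset.ext_iff.1 h (a y)
  simp only [Perm.mem_support, Perm.mul_apply, happ] at h'
  simp only [Perm.mem_support]
  have e : a (b y) = a y ↔ b y = y := a.injective.eq_iff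
  rw [not_iff_not] at h' ⊢
  rw [← e, h']
  exact eq_comm

/-- Either order of the sizes will do. -/
theorem of_le {σ a b : Perm α} (ha : a * a = 1) (hb : b * b = 1) (he : σ = a * b)
    (hsa : a.support ⊆ σ.support) (hsb : b.support ⊆ σ.support)
    (h1 : a.support.card ≤ b.support.card + 2) (h2 : b.support.card ≤ a.support.card + 2)
    (hne : σ ≠ 1 → a.support ≠ b.support) : Balanced σ := by
  rcases le_total a.support.card b.support.card with h | h
  · exact ⟨a, b, ha, hb, he, hsa, hsb, h, h2, hne⟩
  · have hainv : a⁻¹ = a := inv_eq_of_mul_eq_one_right ha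
    have hc : (a * b * a).support.card = b.support.card := by
      have e : (a * b * a⁻¹).support.card = b.support.card := Perm.card_support_conj
      rwa [hainv] at e
    refine ⟨a * b * a, a, ?_, ha, ?_, fun y hy => ?_, hsa, hc ▸ h, hc ▸ h1,
      fun hσ hs => hne hσ (support_conj_self ha hs).symm⟩
    · calc a * b * a * (a * b * a) = a * b * (a * a) * (b * a) := by group
        _ = a * (b * b) * a := by rw [ha]; group
        _ = 1 := by rw [hb, mul_one, ha]
    · rw [mul_assoc, ha, mul_one, he]
    · by_contra hy'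
      have hay : a y = y := Perm.notMem_support.1 fun h => hy' (hsa h)
      have hby : b y = y := Perm.notMem_support.1 fun h => hy' (hsb h)
      exact Perm.mem_support.1 hy (by rw [Perm.mul_apply, Perm.mul_apply, hay, hby, hay])

section Cycle

variable {c : Perm α} (hc : c.IsCycle) {x : α} (hx : c x ≠ x)
include hc hx

theorem zpow_eq_one {k : ℤ} (h : (c ^ k) x = x) : c ^ k = 1 := by
  obtain ⟨n, rfl | rfl⟩ := k.eq_nat_or_neg
  · rw [zpow_natCast] at h ⊢
    exact (hc.pow_eq_one_iff' hx).2 h
  · rw [zpow_neg, zpow_natCast] at h ⊢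
    rw [inv_eq_one]
    refine (hc.pow_eq_one_iff' hx).2 ?_
    conv_lhs => rw [← h]
    rw [← Perm.mul_apply, mul_inv_cancel, Perm.one_apply]

theorem zpow_apply_inj {i j : ℤ} (h : (c ^ i) x = (c ^ j) x) : c ^ i = c ^ j := by
  have h1 : (c ^ (-j + i)) x = x := by
    rw [zpow_add, Perm.mul_apply, h, ← Perm.mul_apply, ← zpow_add, neg_add_cancel, zpow_zero,
      Perm.one_apply]
  have h2 := zpow_eq_one hc hx h1
  rw [zpow_add, zpow_neg, inv_mul_eq_one] at h2
  exact h2.symm

/-- A cycle is a balanced product of two involutions. -/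
theorem cycle : Balanced c := by
  classical
  let f : α → α := fun y => if h : Perm.SameCycle c x y then (c ^ (-h.choose)) x else y
  have hf : ∀ i : ℤ, f ((c ^ i) x) = (c ^ (-i)) x := fun i => by
    have h : Perm.SameCycle c x ((c ^ i) x) := ⟨i, rfl⟩
    simp only [f, dif_pos h]
    rw [zpow_neg, zpow_neg, zpow_apply_inj hc hx h.choose_spec]
  have hout : ∀ y, ¬ Perm.SameCycle c x y → f y = y := fun y h => by simp only [f, dif_neg h]
  have hinv : Function.Involutive f := fun y => by
    by_cases h : Perm.SameCycle c x y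
    · obtain ⟨i, rfl⟩ := h
      rw [hf, hf, neg_neg]
    · rw [hout y h, hout y h]
  let a : Perm α := hinv.toPerm f
  have haf : ∀ y, a y = f y := fun _ => rfl
  have ha : a * a = 1 := Perm.ext hinv
  have happ : ∀ z, a (a z) = z := hinv
  have hbz : ∀ i : ℤ, (a * c) ((c ^ i) x) = (c ^ (-(1 + i))) x := fun i => by
    rw [Perm.mul_apply, ← Perm.mul_apply c, ← zpow_one_add, haf, hf]
  have hmem : ∀ y, y ∈ c.support ↔ Perm.SameCycle c x y := fun y => by
    refine ⟨fun h => hc.sameCycle hx (Perm.mem_support.1 h), ?_⟩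
    rintro ⟨i, rfl⟩
    exact Perm.zpow_apply_mem_support.2 (Perm.mem_support.2 hx)
  have hb : a * c * (a * c) = 1 := Perm.ext fun y => by
    rw [Perm.one_apply, Perm.mul_apply]
    by_cases h : Perm.SameCycle c x y
    · obtain ⟨i, rfl⟩ := h
      rw [hbz, hbz]
      congr 1; congr 1; ring
    · have hcy : c y = y := by
        by_contra h'
        exact h ((hmem y).1 (Perm.mem_support.2 h'))
      have e : (a * c) y = y := by rw [Perm.mul_apply, hcy, haf, hout y h]
      rw [e, e]
  have hsa : a.support ⊆ c.support := fun y hy => by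
    by_contra h
    exact Perm.mem_support.1 hy (hout y fun h' => h ((hmem y).2 h'))
  have hsb : (a * c).support ⊆ c.support := fun y hy => by
    by_contra h
    apply Perm.mem_support.1 hy
    rw [Perm.mul_apply, Perm.notMem_support.1 h]
    exact Perm.notMem_support.1 fun h' => h (hsa h')
  have hL : (orderOf c : ℕ) = c.support.card := hc.orderOf
  have hpow : ∀ y ∈ c.support, ∃ i, i < orderOf c ∧ (c ^ (i : ℤ)) x = y := fun y hy => by
    obtain ⟨i, hi, e⟩ := ((hmem y).1 hy).exists_pow_eq'
    refine ⟨i, hi, ?_⟩
    rw [zpow_natCast]; exact e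
  have hdiv : ∀ i : ℕ, (c ^ (i : ℤ)) x = x → orderOf c ∣ i := fun i h => by
    rw [orderOf_dvd_iff_pow_eq_one, ← zpow_natCast]; exact zpow_eq_one hc hx h
  have hfix : (c.support \ a.support).card ≤ 2 := by
    refine (Finset.card_le_card (t := {x, (c ^ ((orderOf c / 2 : ℕ) : ℤ)) x}) fun y hy => ?_).trans
      Finset.card_le_two
    obtain ⟨hy1, hy2⟩ := Finset.mem_sdiff.1 hy
    obtain ⟨i, hi, rfl⟩ := hpow y hy1
    have e : (c ^ (-(i : ℤ))) x = (c ^ (i : ℤ)) x := by
      rw [← hf]; exact Perm.notMem_support.1 hy2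
    have e2 : (c ^ ((2 * i : ℕ) : ℤ)) x = x := by
      rw [show ((2 * i : ℕ) : ℤ) = (i : ℤ) + (i : ℤ) by push_cast; ring, zpow_add, Perm.mul_apply, ← e,
        ← Perm.mul_apply, ← zpow_add, add_neg_cancel, zpow_zero, Perm.one_apply]
    obtain ⟨k, hk⟩ := hdiv _ e2
    rw [Finset.mem_insert, Finset.mem_singleton]
    rcases (show k = 0 ∨ k = 1 by
        have : k < 2 := by
          by_contra h
          have := Nat.mul_le_mul_left (orderOf c) (not_lt.1 h)
          omega
        omega) with rfl | rfl
    · left
      rw [show i = 0 by omega]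
      simp
    · right
      rw [show i = orderOf c / 2 by omega]
  have hfixb : (c.support \ (a * c).support).card ≤ 2 := by
    refine (Finset.card_le_card (t := {(c ^ (((orderOf c - 1) / 2 : ℕ) : ℤ)) x}) fun y hy => ?_).trans
      (by simp)
    obtain ⟨hy1, hy2⟩ := Finset.mem_sdiff.1 hy
    obtain ⟨i, hi, rfl⟩ := hpow y hy1
    have e : (c ^ (-(1 + (i : ℤ)))) x = (c ^ (i : ℤ)) x := by
      rw [← hbz]; exact Perm.notMem_support.1 hy2
    have e2 : (c ^ ((2 * i + 1 : ℕ) : ℤ)) x = x := by
      rw [show ((2 * i + 1 : ℕ) : ℤ) = (1 + (i : ℤ)) + (i : ℤ) by push_cast; ring, zpow_add, Perm.mul_apply, ← e,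
        ← Perm.mul_apply, ← zpow_add, add_neg_cancel, zpow_zero, Perm.one_apply]
    obtain ⟨k, hk⟩ := hdiv _ e2
    rw [Finset.mem_singleton]
    have hk1 : k = 1 := by
      have h0 : k ≠ 0 := fun h => by rw [h] at hk; omega
      have : k < 2 := by
        by_contra h
        have := Nat.mul_le_mul_left (orderOf c) (not_lt.1 h)
        omega
      omega
    rw [hk1, mul_one] at hk
    rw [show i = (orderOf c - 1) / 2 by omega]
  have c1 := Finset.card_sdiff_add_card_eq_card hsa
  have c2 := Finset.card_sdiff_add_card_eq_card hsb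
  have c3 := Finset.card_le_card hsa
  have c4 := Finset.card_le_card hsb
  refine of_le ha hb (by rw [← mul_assoc, ha, one_mul]) hsa hsb (by omega) (by omega) fun _ hs => ?_
  have hxa : x ∉ a.support := by
    rw [Perm.notMem_support, haf]
    simpa using hf 0
  rw [hs, Perm.notMem_support, Perm.mul_apply] at hxa
  have h' : c x = a x := by
    have := congrArg a hxa
    rwa [happ] at this
  exact hx (by rw [h', haf]; simpa using hf 0)

end Cycle

/-- Every permutation is balanced. -/
theorem balanced (σ : Perm α) : Balanced σ := by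
  induction σ using Perm.cycle_induction_on with
  | base_one => exact ⟨1, 1, one_mul 1, one_mul 1, (one_mul 1).symm, by simp, by simp, le_rfl, by simp,
      fun h => absurd rfl h⟩
  | base_cycles σ hσ =>
    obtain ⟨x, hx, -⟩ := id hσ
    exact cycle hσ hx
  | induction_disjoint σ τ hd hσ ihσ ihτ =>
    obtain ⟨a₁, b₁, ha₁, hb₁, e₁, sa₁, sb₁, l₁, u₁, n₁⟩ := ihσ
    obtain ⟨a₂, b₂, ha₂, hb₂, e₂, sa₂, sb₂, l₂, u₂, -⟩ := ihτ
    have hdd : _root_.Disjoint σ.support τ.support := Perm.disjoint_iff_disjoint_support.1 hd
    have hsupp : (σ * τ).support = σ.support ∪ τ.support := hd.support_mul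
    have glue : ∀ {u v : Perm α}, u * u = 1 → v * v = 1 → τ = u * v → u.support ⊆ τ.support →
        v.support ⊆ τ.support →
        a₁.support.card + u.support.card ≤ b₁.support.card + v.support.card + 2 →
        b₁.support.card + v.support.card ≤ a₁.support.card + u.support.card + 2 → Balanced (σ * τ) := by
      intro u v hu hv he su sv h1 h2
      have du : Perm.Disjoint a₁ u :=
        Perm.disjoint_iff_disjoint_support.2 (hdd.mono sa₁ su)
      have dv : Perm.Disjoint b₁ v :=
        Perm.disjoint_iff_disjoint_support.2 (hdd.mono sb₁ sv)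
      have dbu : Perm.Disjoint b₁ u :=
        Perm.disjoint_iff_disjoint_support.2 (hdd.mono sb₁ su)
      refine of_le (a := a₁ * u) (b := b₁ * v) ?_ ?_ ?_ ?_ ?_ ?_ ?_ ?_
      · calc a₁ * u * (a₁ * u) = a₁ * (u * a₁) * u := by group
          _ = a₁ * a₁ * (u * u) := by rw [← du.commute.eq]; group
          _ = 1 := by rw [ha₁, hu, one_mul]
      · calc b₁ * v * (b₁ * v) = b₁ * (v * b₁) * v := by group
          _ = b₁ * b₁ * (v * v) := by rw [← dv.commute.eq]; group
          _ = 1 := by rw [hb₁, hv, one_mul]
      · calc σ * τ = a₁ * (b₁ * u) * v := by rw [e₁, he]; group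
          _ = a₁ * u * (b₁ * v) := by rw [dbu.commute.eq]; group
      · rw [du.support_mul, hsupp]; exact Finset.union_subset_union sa₁ su
      · rw [dv.support_mul, hsupp]; exact Finset.union_subset_union sb₁ sv
      · rw [du.card_support_mul, dv.card_support_mul]; exact h1
      · rw [du.card_support_mul, dv.card_support_mul]; exact h2
      · intro _ hs
        refine n₁ hσ.ne_one ?_
        rw [du.support_mul, dv.support_mul] at hs
        ext y
        have hs' := Finset.ext_iff.1 hs y
        simp only [Finset.mem_union] at hs'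
        refine ⟨fun h => ?_, fun h => ?_⟩
        · exact (hs'.1 (Or.inl h)).resolve_right fun h' =>
            Finset.disjoint_left.1 hdd (sa₁ h) (sv h')
        · exact (hs'.2 (Or.inl h)).resolve_right fun h' =>
            Finset.disjoint_left.1 hdd (sb₁ h) (su h')
    by_cases h : (b₁.support.card - a₁.support.card) + (b₂.support.card - a₂.support.card) ≤ 2
    · exact glue ha₂ hb₂ e₂ sa₂ sb₂ (by omega) (by omega)
    · have hc : (a₂ * b₂ * a₂).support.card = b₂.support.card := by
        have e : (a₂ * b₂ * a₂⁻¹).support.card = b₂.support.card := Perm.card_support_conj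
        rwa [inv_eq_of_mul_eq_one_right ha₂] at e
      refine glue (u := a₂ * b₂ * a₂) (v := a₂) ?_ ha₂ ?_ (fun y hy => ?_) sa₂ (by omega) (by omega)
      · calc a₂ * b₂ * a₂ * (a₂ * b₂ * a₂) = a₂ * b₂ * (a₂ * a₂) * (b₂ * a₂) := by group
          _ = a₂ * (b₂ * b₂) * a₂ := by rw [ha₂]; group
          _ = 1 := by rw [hb₂, mul_one, ha₂]
      · rw [mul_assoc, ha₂, mul_one, e₂]
      · by_contra hy'
        have hay : a₂ y = y := Perm.notMem_support.1 fun h => hy' (sa₂ h)
        have hby : b₂ y = y := Perm.notMem_support.1 fun h => hy' (sb₂ h)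
        exact Perm.mem_support.1 hy (by rw [Perm.mul_apply, Perm.mul_apply, hay, hby, hay])

/-- An involution moves an even number `k` of points and has sign `(-1) ^ (k / 2)`. -/
theorem involution_facts {a : Perm α} (ha : a * a = 1) :
    a.cycleType = Multiset.replicate (a.support.card / 2) 2 ∧ a.support.card = 2 * (a.support.card / 2) ∧
      Perm.sign a = (-1) ^ (a.support.card / 2) := by
  haveI : Fact (Nat.Prime 2) := ⟨Nat.prime_two⟩
  have hall : ∀ n ∈ a.cycleType, n = 2 := fun n hn => by
    have h1 := (Perm.dvd_of_mem_cycleType hn).trans (orderOf_dvd_of_pow_eq_one (by rw [sq, ha]))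
    have h2 := Perm.two_le_of_mem_cycleType hn
    exact le_antisymm (Nat.le_of_dvd two_pos h1) h2
  have h := Multiset.eq_replicate_card.2 hall
  have hs : a.support.card = 2 * a.cycleType.card := by
    rw [← Perm.sum_cycleType]
    conv_lhs => rw [h, Multiset.sum_replicate, smul_eq_mul, mul_comm]
  have hq : a.support.card / 2 = a.cycleType.card := by omega
  refine ⟨hq.symm ▸ h, by omega, ?_⟩
  rw [Perm.sign_of_cycleType, hq, Perm.sum_cycleType, hs, pow_add, pow_mul]
  simp

/-- An even permutation is a product of two involutions of equal support size. -/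
theorem even_pair {σ : Perm α} (hσ : Perm.sign σ = 1) :
    ∃ a b : Perm α, a * a = 1 ∧ b * b = 1 ∧ σ = a * b ∧ a.support.card = b.support.card ∧
      (σ ≠ 1 → a.support ≠ b.support) := by
  obtain ⟨a, b, ha, hb, he, -, -, l, u, n⟩ := balanced σ
  refine ⟨a, b, ha, hb, he, ?_, n⟩
  obtain ⟨-, ea, sa⟩ := involution_facts ha
  obtain ⟨-, eb, sb⟩ := involution_facts hb
  rw [he, map_mul, sa, sb, ← pow_add] at hσ
  by_contra h
  rw [show a.support.card / 2 + b.support.card / 2 = 2 * (a.support.card / 2) + 1 by omega, pow_add, pow_mul] at hσ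
  simp at hσ

/-- Involutions of the same support size are conjugate. -/
theorem conj_of_card {a b : Perm α} (ha : a * a = 1) (hb : b * b = 1)
    (h : a.support.card = b.support.card) : ∃ π : Perm α, π * a * π⁻¹ = b := by
  rw [← isConj_iff, Perm.isConj_iff_cycleType_eq, (involution_facts ha).1, (involution_facts hb).1, h]

end Cfsg.Agent.SimpleFacts.AltCoverComm.Pair
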