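import Cfsg.Agent.SimpleFacts.AltCoverComm.Pair

/-!
# Even permutations as products of two conjugates with two transpositions in their cycle decomposition
-/

set_option autoImplicit false

namespace Cfsg.Agent.SimpleFacts.AltCoverComm.Perms

open Equiv

variable {α : Type*} [DecidableEq α] [Fintype α]

/-- The property of `x` used for lifting: even and interchanging two disjoint pairs. -/
def TwoPairs (x : Perm α) : Prop :=
  Perm.sign x = 1 ∧ ∃ a b c d : α, [a, b, c, d].Nodup ∧ x a = b ∧ x b = a ∧ x c = d ∧ x d = c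

/-- A factorization into two conjugates, the first with two pairs. -/
def Good (σ : Perm α) : Prop :=
  ∃ x π : Perm α, TwoPairs x ∧ σ = x * (π * x * π⁻¹)

theorem nodup_four {a b c d : α} (hab : a ≠ b) (hac : a ≠ c) (had : a ≠ d) (hbc : b ≠ c) (hbd : b ≠ d)
    (hcd : c ≠ d) : [a, b, c, d].Nodup := by
  simp [hab, hac, had, hbc, hbd, hcd]

/-- Two disjoint transpositions have two pairs. -/
theorem twoPairs_swap {a b c d : α} (hab : a ≠ b) (hac : a ≠ c) (had : a ≠ d) (hbc : b ≠ c) (hbd : b ≠ d)
    (hcd : c ≠ d) : TwoPairs (swap a b * swap c d) := by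
  refine ⟨by rw [map_mul, Perm.sign_swap hab, Perm.sign_swap hcd]; rfl, a, b, c, d,
    nodup_four hab hac had hbc hbd hcd, ?_, ?_, ?_, ?_⟩
  · rw [Perm.mul_apply, swap_apply_of_ne_of_ne hac had, swap_apply_left]
  · rw [Perm.mul_apply, swap_apply_of_ne_of_ne hbc hbd, swap_apply_right]
  · rw [Perm.mul_apply, swap_apply_left, swap_apply_of_ne_of_ne had.symm hbd.symm]
  · rw [Perm.mul_apply, swap_apply_right, swap_apply_of_ne_of_ne hac.symm hbc.symm]

/-- The centraliser of an involution moves any moved point to any other. -/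
theorem centraliser_moves {R : Perm α} (hR : ∀ z, R (R z) = z) {p q : α} (hp : R p ≠ p) (hq : R q ≠ q) :
    ∃ κ : Perm α, κ * R = R * κ ∧ κ p = q ∧ ∀ z, R z = z → κ z = z := by
  rcases eq_or_ne p q with rfl | hpq
  · exact ⟨1, by rw [one_mul, mul_one], rfl, fun _ _ => rfl⟩
  rcases eq_or_ne (R p) q with h | h
  · exact ⟨R, rfl, h, fun _ hz => hz⟩
  have hpq' : p ≠ R q := fun e => h (by rw [e, hR])
  have hne : R p ≠ R q := fun e => hpq (R.injective e)
  refine ⟨swap p q * swap (R p) (R q), ?_, ?_, fun z hz => ?_⟩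
  · have hc : swap p q * swap (R p) (R q) = swap (R p) (R q) * swap p q :=
      (Perm.disjoint_swap_swap (nodup_four hpq hp.symm hpq' h.symm hq.symm hne)).commute
    have key : R * (swap p q * swap (R p) (R q)) = swap (R p) (R q) * swap p q * R := by
      rw [← mul_assoc, mul_swap_eq_swap_mul R p q, mul_assoc (swap (R p) (R q)) R,
        mul_swap_eq_swap_mul R (R p) (R q), hR, hR, ← mul_assoc]
    rw [key, hc]
  · rw [Perm.mul_apply, swap_apply_of_ne_of_ne hp.symm hpq', swap_apply_left]
  · have h1 : z ≠ p := fun e => hp (e ▸ hz)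
    have h2 : z ≠ q := fun e => hq (e ▸ hz)
    have h3 : z ≠ R p := fun e => h1 (R.injective (hz.trans e))
    have h4 : z ≠ R q := fun e => h2 (R.injective (hz.trans e))
    rw [Perm.mul_apply, swap_apply_of_ne_of_ne h3 h4, swap_apply_of_ne_of_ne h1 h2]

/-- Nontrivial even permutations are good from degree five on. -/
theorem good {σ : Perm α} (hn : 5 ≤ Fintype.card α) (hσ : Perm.sign σ = 1) (h1 : σ ≠ 1) : Good σ := by
  obtain ⟨R, R', hR, hR', he, hcard, hne⟩ := Pair.even_pair hσ
  have happ : ∀ z, R (R z) = z := fun z => by rw [← Perm.mul_apply, hR, Perm.one_apply]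
  have happ' : ∀ z, R' (R' z) = z := fun z => by rw [← Perm.mul_apply, hR', Perm.one_apply]
  obtain ⟨-, hdbl, hsign⟩ := Pair.involution_facts hR
  have hpos : R.support.card ≠ 0 := fun h => hne h1 (by
    rw [Finset.card_eq_zero.1 h, Finset.card_eq_zero.1 (hcard.symm.trans h)])
  rcases Nat.even_or_odd (R.support.card / 2) with heven | hodd
  · obtain ⟨π, hπ⟩ := Pair.conj_of_card hR hR' hcard
    obtain ⟨k, hk⟩ := heven
    obtain ⟨a, ha⟩ := Finset.card_pos.1 (Nat.pos_of_ne_zero hpos)
    have hab : R a ≠ a := Perm.mem_support.1 ha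
    obtain ⟨c, hc, hc'⟩ := Finset.exists_mem_notMem_of_card_lt_card
      (s := {a, R a}) (t := R.support) (Finset.card_le_two.trans_lt (by omega))
    simp only [Finset.mem_insert, Finset.mem_singleton, not_or] at hc'
    have hcd : R c ≠ c := Perm.mem_support.1 hc
    refine ⟨R, π, ⟨by rw [hsign, hk, pow_add]; simp [← mul_pow], a, R a, c, R c, nodup_four hab.symm
      (Ne.symm hc'.1) (fun e => hc'.2 (by rw [e, happ])) (Ne.symm hc'.2)
      (fun e => hc'.1 (R.injective e).symm) hcd.symm, rfl, happ a, rfl, happ c⟩, by rw [hπ, he]⟩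
  rcases eq_or_ne (R.support.card / 2) 1 with hone | hmore
  · -- a product of two transpositions
    have hswap : ∀ {S : Perm α}, S.support.card = R.support.card → ∃ a b, a ≠ b ∧ S = swap a b :=
      fun {S} h => Perm.card_support_eq_two.1 (by omega)
    obtain ⟨a, b, hab, rfl⟩ := hswap (S := R) rfl
    obtain ⟨c, d, hcd, rfl⟩ := hswap (S := R') hcard.symm
    by_cases hdis : a ≠ c ∧ a ≠ d ∧ b ≠ c ∧ b ≠ d
    · obtain ⟨hac, had, hbc, hbd⟩ := hdis
      refine ⟨swap a c * swap b d, swap c d, twoPairs_swap hac hab had hbc.symm hcd hbd, ?_⟩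
      rw [he, swap_inv]
      have e : swap c d * (swap a c * swap b d) * swap c d = swap a d * swap b c := by
        have e1 : swap c d * swap a c = swap a d * swap c d := by
          rw [mul_swap_eq_swap_mul, swap_apply_of_ne_of_ne hac had, swap_apply_left]
        have e2 : swap c d * swap b d = swap b c * swap c d := by
          rw [mul_swap_eq_swap_mul, swap_apply_of_ne_of_ne hbc hbd, swap_apply_right]
        rw [← mul_assoc, e1, mul_assoc (swap a d), e2, mul_assoc, mul_assoc, swap_mul_self, mul_one]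
      rw [e]
      ext z
      simp only [Perm.mul_apply]
      rcases eq_or_ne z a with rfl | ha
      · simp [swap_apply_of_ne_of_ne, hab.symm, hbc, hbd, hcd.symm, hac.symm, had.symm, hbd.symm, hbc.symm, hac, had, hab, hcd]
      rcases eq_or_ne z b with rfl | hb
      · simp [swap_apply_of_ne_of_ne, hab.symm, hbc, hbd, hcd.symm, hac.symm, had.symm, hbd.symm, hbc.symm, hac, had, hab, hcd]
      rcases eq_or_ne z c with rfl | hc
      · simp [swap_apply_of_ne_of_ne, hab.symm, hbc, hbd, hcd.symm, hac.symm, had.symm, hbd.symm, hbc.symm, hac, had, hab, hcd]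
      rcases eq_or_ne z d with rfl | hd
      · simp [swap_apply_of_ne_of_ne, hab.symm, hbc, hbd, hcd.symm, hac.symm, had.symm, hbd.symm, hbc.symm, hac, had, hab, hcd]
      simp [swap_apply_of_ne_of_ne, ha, hb, hc, hd]
    · -- the transpositions share a point
      have hsmall : ({a, b, c, d} : Finset α).card ≤ 3 := by
        rw [not_and_or, not_and_or, not_and_or] at hdis
        simp only [not_not] at hdis
        rcases hdis with rfl | rfl | rfl | rfl
        · refine (Finset.card_le_card (t := {a, b, d}) ?_).trans Finset.card_le_three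
          intro z hz; simp only [Finset.mem_insert, Finset.mem_singleton] at hz ⊢; tauto
        · refine (Finset.card_le_card (t := {a, b, c}) ?_).trans Finset.card_le_three
          intro z hz; simp only [Finset.mem_insert, Finset.mem_singleton] at hz ⊢; tauto
        · refine (Finset.card_le_card (t := {a, b, d}) ?_).trans Finset.card_le_three
          intro z hz; simp only [Finset.mem_insert, Finset.mem_singleton] at hz ⊢; tauto
        · refine (Finset.card_le_card (t := {a, b, c}) ?_).trans Finset.card_le_three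
          intro z hz; simp only [Finset.mem_insert, Finset.mem_singleton] at hz ⊢; tauto
      have h2 : 2 ≤ ({a, b, c, d} : Finset α)ᶜ.card := by rw [Finset.card_compl]; omega
      obtain ⟨p, hp, q, hq, hpq⟩ := Finset.one_lt_card.1 h2
      simp only [Finset.mem_compl, Finset.mem_insert, Finset.mem_singleton, not_or] at hp hq
      obtain ⟨hpa, hpb, hpc, hpd⟩ := hp
      obtain ⟨hqa, hqb, hqc, hqd⟩ := hq
      obtain ⟨π, hπ⟩ : ∃ π : Perm α, π * (swap a b * swap p q) * π⁻¹ = swap c d * swap p q := by
        refine Pair.conj_of_card ?_ ?_ ?_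
        · have hc := (Perm.disjoint_swap_swap (nodup_four hab (Ne.symm hpa) (Ne.symm hqa) (Ne.symm hpb)
            (Ne.symm hqb) hpq)).commute
          rw [show swap a b * swap p q * (swap a b * swap p q) =
            swap a b * (swap p q * swap a b) * swap p q by group, ← hc.eq, ← mul_assoc (swap a b), swap_mul_self,
            one_mul, swap_mul_self]
        · have hc := (Perm.disjoint_swap_swap (nodup_four hcd (Ne.symm hpc) (Ne.symm hqc) (Ne.symm hpd)
            (Ne.symm hqd) hpq)).commute
          rw [show swap c d * swap p q * (swap c d * swap p q) =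
            swap c d * (swap p q * swap c d) * swap p q by group, ← hc.eq, ← mul_assoc (swap c d), swap_mul_self,
            one_mul, swap_mul_self]
        · rw [(Perm.disjoint_swap_swap (nodup_four hab (Ne.symm hpa) (Ne.symm hqa) (Ne.symm hpb)
              (Ne.symm hqb) hpq)).card_support_mul,
            (Perm.disjoint_swap_swap (nodup_four hcd (Ne.symm hpc) (Ne.symm hqc) (Ne.symm hpd)
              (Ne.symm hqd) hpq)).card_support_mul, Perm.card_support_swap hab, Perm.card_support_swap hcd]
      refine ⟨swap a b * swap p q, π, twoPairs_swap hab (Ne.symm hpa) (Ne.symm hqa) (Ne.symm hpb)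
        (Ne.symm hqb) hpq, ?_⟩
      rw [hπ, (Perm.disjoint_swap_swap (nodup_four hcd (Ne.symm hpc) (Ne.symm hqc) (Ne.symm hpd)
        (Ne.symm hqd) hpq)).commute.eq, he, mul_assoc, ← mul_assoc (swap p q), swap_mul_self, one_mul]
  · -- join a fixed point of each involution
    have hnsub : ¬ R.support ⊆ R'.support := fun h => hne h1 (Finset.eq_of_subset_of_card_le h hcard.ge)
    have hnsub' : ¬ R'.support ⊆ R.support := fun h =>
      hne h1 (Finset.eq_of_subset_of_card_le h hcard.le).symm
    obtain ⟨f', hf', hf'2⟩ := Finset.not_subset.1 hnsub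
    obtain ⟨f, hf2, hf⟩ := Finset.not_subset.1 hnsub'
    rw [Perm.notMem_support] at hf hf'2
    rw [Perm.mem_support] at hf2 hf'
    have hff : f ≠ f' := fun e => hf' (e ▸ hf)
    obtain ⟨π₀, hπ₀⟩ := Pair.conj_of_card hR hR' hcard
    have hconj : ∀ z, π₀ (R z) = R' (π₀ z) := fun z => by
      rw [← hπ₀]; simp [Perm.mul_apply]
    have hp : R' (π₀ f') ≠ π₀ f' := fun e => hf' (π₀.injective (by rw [hconj, e]))
    have hq : R' (π₀ f) = π₀ f := by rw [← hconj, hf]
    obtain ⟨κ, hκR, hκ, hκfix⟩ := centraliser_moves happ' hp hf2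
    let τ' : Perm α := swap (π₀ f) f'
    have hτ'R : τ' * R' = R' * τ' := by
      show swap (π₀ f) f' * R' = R' * swap (π₀ f) f'
      rw [mul_swap_eq_swap_mul, hq, hf'2]
    let π : Perm α := τ' * κ * π₀
    have hπR : π * R * π⁻¹ = R' := by
      calc π * R * π⁻¹ = τ' * κ * (π₀ * R * π₀⁻¹) * κ⁻¹ * τ'⁻¹ := by simp only [π]; group
        _ = τ' * (κ * R') * κ⁻¹ * τ'⁻¹ := by rw [hπ₀]; group
        _ = τ' * R' * τ'⁻¹ := by rw [hκR]; group
        _ = R' := by rw [hτ'R]; group
    have hπf : π f = f' := by
      show τ' (κ (π₀ f)) = f'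
      rw [hκfix _ hq]; exact swap_apply_left _ _
    have hπf' : π f' = f := by
      show τ' (κ (π₀ f')) = f
      rw [hκ]
      exact swap_apply_of_ne_of_ne (fun e => hf2 (e ▸ hq)) hff
    have hπτ : π * swap f f' * π⁻¹ = swap f f' := by
      rw [mul_swap_eq_swap_mul, hπf, hπf', mul_inv_cancel_right, swap_comm]
    clear_value π τ'
    have hsg : Perm.sign (R * swap f f') = 1 := by
      rw [map_mul, hsign, Perm.sign_swap hff, hodd.neg_one_pow]; rfl
    have hout : (({f', R f'} : Finset α)).card < R.support.card :=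
      Finset.card_le_two.trans_lt (by obtain ⟨k, hk⟩ := hodd; omega)
    obtain ⟨a, ha, ha'⟩ := Finset.exists_mem_notMem_of_card_lt_card hout
    simp only [Finset.mem_insert, Finset.mem_singleton, not_or] at ha'
    have hout2 : (({f', R f', a, R a} : Finset α)).card < R.support.card :=
      Finset.card_le_four.trans_lt (by obtain ⟨k, hk⟩ := hodd; omega)
    obtain ⟨c, hc, hc'⟩ := Finset.exists_mem_notMem_of_card_lt_card hout2
    simp only [Finset.mem_insert, Finset.mem_singleton, not_or] at hc'
    rw [Perm.mem_support] at ha hc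
    have hval : ∀ z, R z ≠ z → z ≠ f' → z ≠ R f' → (R * swap f f') z = R z ∧
        (R * swap f f') (R z) = z := fun z h1 h2 h3 => by
      have hzf : z ≠ f := fun e => h1 (e ▸ hf)
      have hRzf : R z ≠ f := fun e => hzf (R.injective (e.trans hf.symm))
      have hRzf' : R z ≠ f' := fun e => h3 (by rw [← e, happ])
      rw [Perm.mul_apply, Perm.mul_apply, swap_apply_of_ne_of_ne hzf h2,
        swap_apply_of_ne_of_ne hRzf hRzf', happ]
      exact ⟨rfl, rfl⟩
    obtain ⟨v1, v2⟩ := hval a ha ha'.1 ha'.2
    obtain ⟨v3, v4⟩ := hval c hc hc'.1 hc'.2.1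
    refine ⟨R * swap f f', swap f f' * π, ⟨hsg, a, R a, c, R c, nodup_four ha.symm (Ne.symm hc'.2.2.1)
      (fun e => hc'.2.2.2 (by rw [e, happ])) (Ne.symm hc'.2.2.2)
      (fun e => hc'.2.2.1 (R.injective e).symm) hc.symm, v1, v2, v3, v4⟩, ?_⟩
    calc σ = R * swap f f' * (swap f f' * R' * (swap f f' * swap f f')) := by
          rw [swap_mul_self, mul_one, ← mul_assoc, mul_assoc R, swap_mul_self, mul_one, he]
      _ = R * swap f f' * (swap f f' * ((π * R * π⁻¹) * (π * swap f f' * π⁻¹)) * swap f f') := by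
          rw [hπR, hπτ]; group
      _ = R * swap f f' * (swap f f' * π * (R * swap f f') * (swap f f' * π)⁻¹) := by
          rw [mul_inv_rev, swap_inv]; group

end Cfsg.Agent.SimpleFacts.AltCoverComm.Perms
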